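import Mathlib

/-!
# Zariski pro-covers of inverse systems of schemes indexed by a cofinite poset

Given an inverse system `X : Λᵒᵖ ⥤ Scheme` over a poset all of whose lower sets `Set.Iic l` are
finite, and finite open covers `W l` of every `X_l`, we build an inverse system
`passF X W` with `(passF X W)_l = ∐_t ⋂_{m ≤ l} f_{lm}⁻¹ (W m (t m))`, the coproduct running over
all choice functions `t : (m ≤ l) → J m`, together with a morphism of systems `passπ X W` to `X`.
-/

set_option backward.isDefEq.respectTransparency.types false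
set_option autoImplicit false
set_option linter.unusedSectionVars false
set_option linter.unusedVariables false
set_option linter.style.haveILetI false
set_option linter.unusedSimpArgs false
set_option maxHeartbeats 1600000
set_option synthInstance.maxHeartbeats 400000

open CategoryTheory CategoryTheory.Limits AlgebraicGeometry Opposite TopologicalSpace

namespace Groth.Agent.Helper6.ZarPro

universe u v

section General

/-- A morphism from an affine scheme to a separated scheme is affine. -/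
lemma isAffineHom_of_isAffine_of_isSeparated {A Z : Scheme.{u}} [IsAffine A] [Z.IsSeparated]
    (h : A ⟶ Z) : IsAffineHom h := by
  haveI : IsAffineHom (h ≫ terminal.from Z) := by
    rw [terminal.comp_from]; infer_instance
  exact IsAffineHom.of_comp h (terminal.from Z)

lemma isAffineOpen_inf_preimage {Z Z' : Scheme.{u}} [Z'.IsSeparated] {A : Z.Opens}
    (hA : IsAffineOpen A) (f : Z ⟶ Z') {O : Z'.Opens} (hO : IsAffineOpen O) :
    IsAffineOpen (A ⊓ f ⁻¹ᵁ O) := by
  haveI : IsAffine A.toScheme := hA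
  haveI : IsAffineHom (A.ι ≫ f) := isAffineHom_of_isAffine_of_isSeparated _
  have h1 : IsAffineOpen ((A.ι ≫ f) ⁻¹ᵁ O) := hO.preimage (A.ι ≫ f)
  have h2 := h1.image_of_isOpenImmersion A.ι
  rw [Scheme.Hom.comp_preimage, Scheme.Hom.image_preimage_eq_opensRange_inf,
    Scheme.Opens.opensRange_ι] at h2
  exact h2

lemma isAffineOpen_inf_of_isSeparated {Z : Scheme.{u}} [Z.IsSeparated] {U V : Z.Opens}
    (hU : IsAffineOpen U) (hV : IsAffineOpen V) : IsAffineOpen (U ⊓ V) := by
  have := isAffineOpen_inf_preimage hU (𝟙 Z) hV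
  rwa [Scheme.Hom.id_preimage] at this

lemma isAffineOpen_inf_iInf {Z : Scheme.{u}} [Z.IsSeparated] {A : Z.Opens}
    (hA : IsAffineOpen A) {κ : Type*} [Finite κ] (O : κ → Z.Opens)
    (hO : ∀ i, IsAffineOpen (A ⊓ O i)) : IsAffineOpen (A ⊓ ⨅ i, O i) := by
  classical
  haveI := Fintype.ofFinite κ
  rw [← Finset.inf_univ_eq_iInf]
  have key : ∀ s : Finset κ, IsAffineOpen (A ⊓ s.inf O) := by
    intro s
    induction s using Finset.induction_on with
    | empty => rw [Finset.inf_empty, inf_top_eq]; exact hA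
    | insert a s ha ih =>
      rw [Finset.inf_insert, inf_inf_distrib_left]
      exact isAffineOpen_inf_of_isSeparated (hO a) ih
  exact key _

lemma isCompact_iInf_opens {Z : Type*} [TopologicalSpace Z] [CompactSpace Z]
    [QuasiSeparatedSpace Z] {κ : Type*} [Finite κ] (O : κ → Opens Z)
    (h : ∀ i, IsCompact (O i : Set Z)) : IsCompact ((⨅ i, O i : Opens Z) : Set Z) := by
  classical
  haveI := Fintype.ofFinite κ
  rw [← Finset.inf_univ_eq_iInf]
  have key : ∀ s : Finset κ, IsCompact ((s.inf O : Opens Z) : Set Z) := by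
    intro s
    induction s using Finset.induction_on with
    | empty => rw [Finset.inf_empty, Opens.coe_top]; exact isCompact_univ
    | insert a s ha ih =>
      rw [Finset.inf_insert, Opens.coe_inf]
      exact QuasiSeparatedSpace.inter_isCompact _ _ (O a).isOpen (h a) (s.inf O).isOpen ih
  exact key _

/-- If `j ≫ p` is an open immersion for an open immersion `j`, then `O.ι ≫ p` is an open
immersion for every open `O` contained in the range of `j`. -/
lemma isOpenImmersion_of_le_opensRange {V Y Z : Scheme.{u}} (j : V ⟶ Y) [IsOpenImmersion j]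
    (p : Y ⟶ Z) [IsOpenImmersion (j ≫ p)] (O : Y.Opens) (hO : O ≤ j.opensRange) :
    IsOpenImmersion (O.ι ≫ p) := by
  have hr : Set.range O.ι ⊆ Set.range j := by
    rw [Scheme.Opens.range_ι]; exact hO
  have fac : IsOpenImmersion.lift j O.ι hr ≫ j = O.ι := IsOpenImmersion.lift_fac _ _ _
  haveI : IsOpenImmersion (IsOpenImmersion.lift j O.ι hr ≫ j) := by rw [fac]; infer_instance
  haveI : IsOpenImmersion (IsOpenImmersion.lift j O.ι hr) := IsOpenImmersion.of_comp _ j
  rw [← fac, Category.assoc]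
  infer_instance

/-- Finite affine open covers subordinate to a given open cover of a quasi-compact scheme. -/
lemma exists_finite_affine_cover {Z : Scheme.{u}} [CompactSpace Z] {κ : Type*}
    (𝒪 : κ → Z.Opens) (h𝒪 : ⨆ k, 𝒪 k = ⊤) :
    ∃ (J : Type u) (_ : Finite J) (W : J → Z.Opens), (∀ j, IsAffineOpen (W j)) ∧
      (∀ j, ∃ k, W j ≤ 𝒪 k) ∧ ⨆ j, W j = ⊤ := by
  classical
  let F : Set Z.Opens := {A | IsAffineOpen A ∧ ∃ k, A ≤ 𝒪 k}
  have hcov : (Set.univ : Set Z) ⊆ ⋃ A : F, (A.1 : Set Z) := by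
    intro z _
    have hz : z ∈ ⨆ k, 𝒪 k := by rw [h𝒪]; trivial
    obtain ⟨k, hk⟩ := Opens.mem_iSup.mp hz
    obtain ⟨A, hA, hzA, hAk⟩ := Opens.isBasis_iff_nbhd.mp Z.isBasis_affineOpens hk
    exact Set.mem_iUnion.mpr ⟨⟨A, hA, k, hAk⟩, hzA⟩
  obtain ⟨t, ht⟩ := isCompact_univ.elim_finite_subcover (fun A : F => (A.1 : Set Z))
    (fun A => A.1.isOpen) hcov
  refine ⟨↥t, inferInstance, fun j => j.1.1, fun j => j.1.2.1, fun j => j.1.2.2, ?_⟩
  rw [eq_top_iff]
  intro z _
  obtain ⟨A, hA⟩ := Set.mem_iUnion.mp (ht (Set.mem_univ z))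
  obtain ⟨hAt, hzA⟩ := Set.mem_iUnion.mp hA
  exact Opens.mem_iSup.mpr ⟨⟨A, hAt⟩, hzA⟩

end General

section Pass

variable {Λ : Type v} [PartialOrder Λ] (X : Λᵒᵖ ⥤ Scheme.{u})

/-- The transition morphism `X_l ⟶ X_m` for `m ≤ l`. -/
noncomputable def trn {l m : Λ} (h : m ≤ l) : X.obj (op l) ⟶ X.obj (op m) :=
  X.map (homOfLE h).op

lemma trn_refl (l : Λ) : trn X (le_refl l) = 𝟙 _ := by
  unfold trn
  have : (homOfLE (le_refl l)).op = 𝟙 (op l) := Quiver.Hom.unop_inj (Subsingleton.elim _ _)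
  rw [this, X.map_id]

lemma trn_comp {l m k : Λ} (h₁ : m ≤ l) (h₂ : k ≤ m) :
    trn X h₁ ≫ trn X h₂ = trn X (h₂.trans h₁) := by
  unfold trn
  rw [← X.map_comp]
  exact congrArg X.map (Quiver.Hom.unop_inj (Subsingleton.elim _ _))

lemma map_eq_trn {x y : Λᵒᵖ} (f : x ⟶ y) : X.map f = trn X (leOfHom f.unop) := by
  unfold trn
  exact congrArg X.map (Quiver.Hom.unop_inj (Subsingleton.elim _ _))

variable {J : Λ → Type u} (W : ∀ l : Λ, J l → (X.obj (op l)).Opens)

/-- Choice functions on the lower set of `l`. -/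
abbrev TT (J : Λ → Type u) (l : Λ) : Type (max u v) := (m : Set.Iic l) → J m.1

/-- Restriction of choice functions. -/
def res {l m : Λ} (h : m ≤ l) (t : TT J l) : TT J m :=
  fun n => t ⟨n.1, Set.mem_Iic.mpr (le_trans (Set.mem_Iic.mp n.2) h)⟩

variable [∀ l : Λ, Finite (Set.Iic l)] [∀ l : Λ, Finite (J l)]

/-- The open of `X_l` cut out by a choice function. -/
noncomputable def VV (l : Λ) (t : TT J l) : (X.obj (op l)).Opens :=
  ⨅ m : Set.Iic l, (trn X (Set.mem_Iic.mp m.2)) ⁻¹ᵁ (W m.1 (t m))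

lemma mem_VV {l : Λ} {t : TT J l} {p : X.obj (op l)} :
    p ∈ VV X W l t ↔ ∀ m : Set.Iic l, (trn X (Set.mem_Iic.mp m.2)) p ∈ W m.1 (t m) := by
  rw [← SetLike.mem_coe, VV, Opens.coe_iInf, Set.mem_iInter]
  exact Iff.rfl

lemma VV_le {l m : Λ} (h : m ≤ l) (t : TT J l) :
    VV X W l t ≤ (trn X h) ⁻¹ᵁ VV X W m (res h t) := by
  intro p hp
  rw [mem_VV] at hp
  show (trn X h) p ∈ VV X W m (res h t)
  rw [mem_VV]
  intro n
  have h1 := hp ⟨n.1, Set.mem_Iic.mpr (le_trans (Set.mem_Iic.mp n.2) h)⟩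
  rw [← Scheme.Hom.comp_apply, trn_comp]
  exact h1

lemma VV_le_W (l : Λ) (t : TT J l) :
    VV X W l t ≤ W l (t ⟨l, Set.mem_Iic.mpr (le_refl l)⟩) := by
  intro p hp
  rw [mem_VV] at hp
  have h1 := hp ⟨l, Set.mem_Iic.mpr (le_refl l)⟩
  rw [trn_refl] at h1
  exact h1

/-- The `l`-th stage of the new system. -/
noncomputable abbrev obj' (l : Λ) : Scheme.{u} :=
  ∐ fun t : TT J l => (VV X W l t).toScheme

/-- Transition morphisms of the new system. -/
noncomputable def map' {l m : Λ} (h : m ≤ l) : obj' X W l ⟶ obj' X W m :=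
  Sigma.desc fun t => (trn X h).resLE _ _ (VV_le X W h t) ≫
    Sigma.ι (fun t' : TT J m => (VV X W m t').toScheme) (res h t)

lemma ι_map' {l m : Λ} (h : m ≤ l) (t : TT J l) :
    Sigma.ι (fun t : TT J l => (VV X W l t).toScheme) t ≫ map' X W h =
      (trn X h).resLE _ _ (VV_le X W h t) ≫
        Sigma.ι (fun t' : TT J m => (VV X W m t').toScheme) (res h t) := by
  unfold map'
  exact Sigma.ι_desc _ _

lemma map'_refl (l : Λ) : map' X W (le_refl l) = 𝟙 _ := by
  refine Sigma.hom_ext _ _ fun t => ?_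
  rw [ι_map']
  have h1 : (trn X (le_refl l)).resLE (VV X W l t) (VV X W l t) (VV_le X W (le_refl l) t) =
      𝟙 _ := by
    rw [← cancel_mono (VV X W l t).ι, Scheme.Hom.resLE_comp_ι, trn_refl, Category.comp_id,
      Category.id_comp]
  exact ((congrArg (· ≫ Sigma.ι (fun t : TT J l => (VV X W l t).toScheme) t) h1).trans
    (Category.id_comp _)).trans (Category.comp_id _).symm

lemma map'_comp {l m k : Λ} (h₁ : m ≤ l) (h₂ : k ≤ m) :
    map' X W h₁ ≫ map' X W h₂ = map' X W (h₂.trans h₁) := by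
  refine Sigma.hom_ext _ _ fun t => ?_
  rw [← Category.assoc, ι_map', Category.assoc, ι_map' X W h₂ (res h₁ t), ι_map']
  have h1 : (trn X h₁).resLE _ _ (VV_le X W h₁ t) ≫
      (trn X h₂).resLE _ _ (VV_le X W h₂ (res h₁ t)) =
      (trn X (h₂.trans h₁)).resLE (VV X W k (res h₂ (res h₁ t))) (VV X W l t)
        (VV_le X W (h₂.trans h₁) t) := by
    rw [← cancel_mono (VV X W k (res h₂ (res h₁ t))).ι, Category.assoc,
      Scheme.Hom.resLE_comp_ι, Scheme.Hom.resLE_comp_ι_assoc, Scheme.Hom.resLE_comp_ι, trn_comp]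
  rw [← Category.assoc, h1]
  rfl

/-- The new inverse system. -/
noncomputable def passF : Λᵒᵖ ⥤ Scheme.{u} where
  obj x := obj' X W x.unop
  map f := map' X W (leOfHom f.unop)
  map_id x := map'_refl X W x.unop
  map_comp f g := (map'_comp X W (leOfHom f.unop) (leOfHom g.unop)).symm

/-- The projection of the `l`-th stage. -/
noncomputable def π' (l : Λ) : obj' X W l ⟶ X.obj (op l) :=
  Sigma.desc fun t => (VV X W l t).ι

lemma ι_π' (l : Λ) (t : TT J l) :
    Sigma.ι (fun t : TT J l => (VV X W l t).toScheme) t ≫ π' X W l = (VV X W l t).ι := by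
  unfold π'
  exact Sigma.ι_desc _ _

lemma map'_π' {l m : Λ} (h : m ≤ l) : map' X W h ≫ π' X W m = π' X W l ≫ trn X h := by
  refine Sigma.hom_ext _ _ fun t => ?_
  rw [← Category.assoc, ι_map', Category.assoc, ι_π', Scheme.Hom.resLE_comp_ι, ← Category.assoc,
    ι_π']

/-- The morphism of inverse systems. -/
noncomputable def passπ : passF X W ⟶ X where
  app x := π' X W x.unop
  naturality x y f := by
    show map' X W (leOfHom f.unop) ≫ π' X W y.unop = π' X W x.unop ≫ X.map f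
    rw [map_eq_trn]
    exact map'_π' X W _

lemma passπ_app (l : Λ) : (passπ X W).app (op l) = π' X W l := rfl

lemma passF_obj (l : Λ) : (passF X W).obj (op l) = obj' X W l := rfl

instance (l : Λ) (t : TT J l) :
    IsOpenImmersion (Sigma.ι (fun t : TT J l => (VV X W l t).toScheme) t) := inferInstance

lemma π'_surjective (hW : ∀ l, ⨆ j, W l j = ⊤) (l : Λ) : Surjective (π' X W l) := by
  refine ⟨fun p => ?_⟩
  have h1 : ∀ m : Set.Iic l, ∃ j : J m.1, (trn X (Set.mem_Iic.mp m.2)) p ∈ W m.1 j := by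
    intro m
    have : (trn X (Set.mem_Iic.mp m.2)) p ∈ ⨆ j, W m.1 j := by rw [hW]; trivial
    exact Opens.mem_iSup.mp this
  choose t ht using h1
  have hp : p ∈ VV X W l t := (mem_VV X W).mpr ht
  have hp' : p ∈ Set.range (VV X W l t).ι := by
    rw [Scheme.Opens.range_ι]; exact hp
  obtain ⟨q, hq⟩ := hp'
  refine ⟨(Sigma.ι (fun t : TT J l => (VV X W l t).toScheme) t) q, ?_⟩
  rw [← Scheme.Hom.comp_apply, ι_π']
  exact hq

lemma iUnion_range_ι (l : Λ) :
    ⋃ t, Set.range (Sigma.ι (fun t : TT J l => (VV X W l t).toScheme) t) = Set.univ := by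
  have := (sigmaOpenCover (fun t : TT J l => (VV X W l t).toScheme)).iUnion_range
  simp only [sigmaOpenCover_f] at this
  exact this

lemma zar_data (l : Λ) : ∃ (ι : Type u) (τ : ι → TT J l),
    Pairwise (fun i j => Disjoint
      (Sigma.ι (fun t : TT J l => (VV X W l t).toScheme) (τ i)).opensRange
      (Sigma.ι (fun t : TT J l => (VV X W l t).toScheme) (τ j)).opensRange) ∧
    (⨆ i, (Sigma.ι (fun t : TT J l => (VV X W l t).toScheme) (τ i)).opensRange) = ⊤ := by
  refine ⟨Shrink.{u} (TT J l), (equivShrink.{u} (TT J l)).symm, ?_, ?_⟩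
  · intro i j hij
    exact disjoint_opensRange_sigmaι _ _ _
      (fun h => hij ((equivShrink.{u} (TT J l)).symm.injective h))
  · rw [(equivShrink.{u} (TT J l)).symm.iSup_comp
      (g := fun t => (Sigma.ι (fun t : TT J l => (VV X W l t).toScheme) t).opensRange)]
    have := (sigmaOpenCover (fun t : TT J l => (VV X W l t).toScheme)).iSup_opensRange
    simp only [sigmaOpenCover_f] at this
    exact this

lemma compactSpace_obj' (l : Λ) (h : ∀ t, IsCompact (VV X W l t : Set (X.obj (op l)))) :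
    CompactSpace (obj' X W l) := by
  rw [← isCompact_univ_iff]
  have := iUnion_range_ι X W l
  unfold obj'
  rw [← this]
  refine isCompact_iUnion fun t => ?_
  haveI : CompactSpace (VV X W l t) := isCompact_iff_compactSpace.mp (h t)
  exact isCompact_range (Scheme.Hom.continuous _)

lemma isAffine_obj' (l : Λ) (h : ∀ t, IsAffineOpen (VV X W l t)) : IsAffine (obj' X W l) := by
  haveI : ∀ t : TT J l, IsAffine ((VV X W l t).toScheme) := h
  unfold obj'
  infer_instance

lemma isSeparated_obj' (l : Λ) (h : ∀ j, IsAffineOpen (W l j)) : (obj' X W l).IsSeparated := by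
  let A : TT J l → Scheme.{u} := fun t => (W l (t ⟨l, Set.mem_Iic.mpr (le_refl l)⟩)).toScheme
  haveI : ∀ t, IsAffine (A t) := fun t => h _
  let α : ∀ t : TT J l, (VV X W l t).toScheme ⟶ ∐ A := fun t =>
    (X.obj (op l)).homOfLE (VV_le_W X W l t) ≫ Sigma.ι A t
  haveI : ∀ t, IsOpenImmersion (α t) := fun t => inferInstance
  have hdisj : Pairwise (Function.onFun Disjoint fun t => Set.range (α t)) := by
    intro t t' htt'
    refine Set.disjoint_left.mpr ?_
    rintro y ⟨a, rfl⟩ ⟨b, hb⟩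
    have hb' : (Sigma.ι A t') (((X.obj (op l)).homOfLE (VV_le_W X W l t')) b) =
        (Sigma.ι A t) (((X.obj (op l)).homOfLE (VV_le_W X W l t)) a) := by
      rw [← Scheme.Hom.comp_apply, ← Scheme.Hom.comp_apply]; exact hb
    have := (sigmaι_eq_iff A t' t _ _).mp hb'
    exact htt' (congrArg Sigma.fst this).symm
  let jj : obj' X W l ⟶ ∐ A := Sigma.desc α
  haveI : IsOpenImmersion jj := isOpenImmersion_sigmaDesc _ α hdisj
  haveI : IsSeparated (jj ≫ terminal.from (∐ A)) := inferInstance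
  refine ⟨?_⟩
  rw [← terminal.comp_from jj]
  infer_instance

lemma isCompact_VV [∀ l : Λ, CompactSpace (X.obj (op l))]
    [∀ l : Λ, QuasiSeparatedSpace (X.obj (op l))]
    (hW : ∀ l j, IsCompact (W l j : Set (X.obj (op l)))) (l : Λ) (t : TT J l) :
    IsCompact (VV X W l t : Set (X.obj (op l))) := by
  unfold VV
  refine isCompact_iInf_opens _ fun m => ?_
  exact Scheme.Hom.isCompact_preimage _ (hW _ _)

lemma isAffineOpen_VV (hsep : ∀ l : Λ, (X.obj (op l)).IsSeparated)
    (hW : ∀ l j, IsAffineOpen (W l j)) (l : Λ) (t : TT J l) :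
    IsAffineOpen (VV X W l t) := by
  haveI := hsep
  have hA : IsAffineOpen (W l (t ⟨l, Set.mem_Iic.mpr (le_refl l)⟩)) := hW _ _
  have h1 : VV X W l t = W l (t ⟨l, Set.mem_Iic.mpr (le_refl l)⟩) ⊓ VV X W l t :=
    (inf_eq_right.mpr (VV_le_W X W l t)).symm
  rw [h1]
  unfold VV
  refine isAffineOpen_inf_iInf hA _ fun m => ?_
  exact isAffineOpen_inf_preimage hA _ (hW _ _)

end Pass

/-- Main theorem: Zariski pro-covers by affine schemes. -/
theorem main {Λ : Type v} [PartialOrder Λ]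
    (hΛ : ∀ l : Λ, (Set.Iic l).Finite) (X : Λᵒᵖ ⥤ Scheme.{u})
    (hqc : ∀ l : Λ, CompactSpace ↥(X.obj (Opposite.op l)))
    (hqs : ∀ l : Λ, QuasiSeparatedSpace ↥(X.obj (Opposite.op l))) :
    ∃ (Y : Λᵒᵖ ⥤ Scheme.{u}) (π : Y ⟶ X), ∀ l : Λ,
      IsAffine (Y.obj (Opposite.op l)) ∧ Surjective (π.app (Opposite.op l)) ∧
        ∃ (ι : Type u) (U : ι → (Y.obj (Opposite.op l)).Opens),
          Pairwise (fun i j => Disjoint (U i) (U j)) ∧ iSup U = ⊤ ∧
            ∀ i, IsOpenImmersion ((U i).ι ≫ π.app (Opposite.op l)) := by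
  haveI : ∀ l : Λ, Finite (Set.Iic l) := fun l => (hΛ l).to_subtype
  haveI := hqc
  haveI := hqs
  -- first pass
  have e1 : ∀ l : Λ, ∃ (J : Type u) (_ : Finite J) (W : J → (X.obj (op l)).Opens),
      (∀ j, IsAffineOpen (W j)) ∧ (∀ j, ∃ k : PUnit.{1}, W j ≤ (fun _ : PUnit.{1} => ⊤) k) ∧
      ⨆ j, W j = ⊤ := fun l =>
    exists_finite_affine_cover (Z := X.obj (op l)) (fun _ : PUnit.{1} => ⊤) (by simp)
  choose J₁ hJ₁ W₁ hW₁aff _ hW₁cov using e1
  haveI := hJ₁
  have hY₁c : ∀ l : Λ, CompactSpace ((passF X W₁).obj (op l)) := fun l =>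
    compactSpace_obj' X W₁ l (fun t =>
      isCompact_VV X W₁ (fun l j => (hW₁aff l j).isCompact) l t)
  have hY₁s : ∀ l : Λ, ((passF X W₁).obj (op l)).IsSeparated := fun l =>
    isSeparated_obj' X W₁ l (hW₁aff l)
  haveI := hY₁c
  -- second pass
  have e2 : ∀ l : Λ, ∃ (J : Type u) (_ : Finite J) (W : J → ((passF X W₁).obj (op l)).Opens),
      (∀ j, IsAffineOpen (W j)) ∧
      (∀ j, ∃ t : TT J₁ l, W j ≤
        (Sigma.ι (fun t : TT J₁ l => (VV X W₁ l t).toScheme) t).opensRange) ∧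
      ⨆ j, W j = ⊤ := fun l =>
    exists_finite_affine_cover (Z := (passF X W₁).obj (op l))
      (fun t : TT J₁ l => (Sigma.ι (fun t : TT J₁ l => (VV X W₁ l t).toScheme) t).opensRange)
      (by
        have := (sigmaOpenCover (fun t : TT J₁ l => (VV X W₁ l t).toScheme)).iSup_opensRange
        simp only [sigmaOpenCover_f] at this
        exact this)
  choose J₂ hJ₂ W₂ hW₂aff hW₂le hW₂cov using e2
  haveI := hJ₂
  refine ⟨passF (passF X W₁) W₂, passπ (passF X W₁) W₂ ≫ passπ X W₁, fun l => ⟨?_, ?_, ?_⟩⟩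
  · exact isAffine_obj' (passF X W₁) W₂ l
      (fun t => isAffineOpen_VV (passF X W₁) W₂ hY₁s hW₂aff l t)
  · show Surjective (π' (passF X W₁) W₂ l ≫ π' X W₁ l)
    exact MorphismProperty.comp_mem (W := @Surjective) _ _
      (π'_surjective (passF X W₁) W₂ hW₂cov l) (π'_surjective X W₁ hW₁cov l)
  · obtain ⟨ι, τ, hd, hc⟩ := zar_data (passF X W₁) W₂ l
    refine ⟨ι, fun i => (Sigma.ι (fun t : TT J₂ l => (VV (passF X W₁) W₂ l t).toScheme)
      (τ i)).opensRange, hd, hc, fun i => ?_⟩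
    show IsOpenImmersion (Scheme.Opens.ι _ ≫ π' (passF X W₁) W₂ l ≫ π' X W₁ l)
    obtain ⟨t₁, ht₁⟩ := hW₂le l ((τ i) ⟨l, Set.mem_Iic.mpr (le_refl l)⟩)
    haveI : IsOpenImmersion (Sigma.ι (fun t : TT J₁ l => (VV X W₁ l t).toScheme) t₁ ≫
        π' X W₁ l) := by
      rw [ι_π']; infer_instance
    haveI : IsOpenImmersion ((VV (passF X W₁) W₂ l (τ i)).ι ≫ π' X W₁ l) :=
      isOpenImmersion_of_le_opensRange
        (Sigma.ι (fun t : TT J₁ l => (VV X W₁ l t).toScheme) t₁) (π' X W₁ l) _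
        ((VV_le_W (passF X W₁) W₂ l (τ i)).trans ht₁)
    haveI : IsOpenImmersion (Sigma.ι (fun t : TT J₂ l => (VV (passF X W₁) W₂ l t).toScheme)
        (τ i) ≫ π' (passF X W₁) W₂ l ≫ π' X W₁ l) := by
      rw [← Category.assoc, ι_π']; infer_instance
    exact isOpenImmersion_of_le_opensRange
      (Sigma.ι (fun t : TT J₂ l => (VV (passF X W₁) W₂ l t).toScheme) (τ i))
      (π' (passF X W₁) W₂ l ≫ π' X W₁ l) _ le_rfl

end Groth.Agent.Helper6.ZarPro
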